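import Mathlib

/-! helper2: algebra of double covers: for `A → B` free of rank 2 with `2` invertible,
`b ↦ tr(b) - b` is an involutive `A`-algebra automorphism with fixed ring `A`; compatibility with
localization; local freeness from constant rank. -/

set_option autoImplicit false
set_option backward.isDefEq.respectTransparency.types false
set_option synthInstance.maxHeartbeats 400000
set_option maxHeartbeats 4000000
set_option linter.style.haveILetI false
set_option linter.unusedSectionVars false
set_option linter.unusedVariables false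
set_option linter.unusedSimpArgs false

universe u v

namespace Groth.Agent.Helper2.DblCov

open Module

theorem mat_ch2 {A : Type*} [CommRing A] (M : Matrix (Fin 2) (Fin 2) A) :
    M * M - M.trace • M + M.det • (1 : Matrix (Fin 2) (Fin 2) A) = 0 := by
  ext i j
  fin_cases i <;> fin_cases j <;>
    simp [Matrix.mul_apply, Fin.sum_univ_two, Matrix.trace, Matrix.det_fin_two] <;> ring

section AlgVersion

variable {A : Type*} {B : Type*} [CommRing A] [CommRing B] [Algebra A B]

theorem ch2 (bas : Basis (Fin 2) A B) (b : B) :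
    ∃ N : A, b * b - (Algebra.trace A B b) • b + algebraMap A B N = 0 := by
  refine ⟨(Algebra.leftMulMatrix bas b).det, ?_⟩
  apply Algebra.leftMulMatrix_injective bas
  rw [map_zero, map_add, map_sub, map_mul, map_smul, AlgHom.commutes,
    Algebra.trace_eq_matrix_trace bas b, Algebra.algebraMap_eq_smul_one]
  exact mat_ch2 _

theorem algebraMap_injective_of_basis (bas : Basis (Fin 2) A B) :
    Function.Injective (algebraMap A B) := by
  rw [injective_iff_map_eq_zero]
  intro a ha
  have h1 : a • bas 0 = 0 := by rw [Algebra.smul_def, ha, zero_mul]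
  have h2 := congrArg (fun x => bas.repr x 0) h1
  simpa using h2

theorem exists_tau (h2 : IsUnit (2 : A)) (bas : Basis (Fin 2) A B) :
    ∃ σ : B →ₐ[A] B, (∀ b : B, σ b = algebraMap A B (Algebra.trace A B b) - b) ∧
      σ.comp σ = AlgHom.id A B ∧
      ∀ b : B, σ b = b ↔ b ∈ Set.range (algebraMap A B) := by
  obtain ⟨u, hu⟩ := h2
  have hu2 : ∀ a : A, 2 * a = 0 → a = 0 := by
    intro a ha
    rw [← hu] at ha
    exact u.mul_right_eq_zero.1 ha
  have htr1 : ∀ a : A, Algebra.trace A B (algebraMap A B a) = 2 * a := by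
    intro a
    rw [Algebra.trace_algebraMap_of_basis bas]
    simp
  let τ : B →ₗ[A] B := (Algebra.linearMap A B) ∘ₗ (Algebra.trace A B) - LinearMap.id
  have hτ : ∀ b, τ b = algebraMap A B (Algebra.trace A B b) - b := fun b => rfl
  have hτ1 : τ 1 = 1 := by
    rw [hτ, ← map_one (algebraMap A B), htr1, map_one, mul_one, map_ofNat]
    ring
  have hτmul : ∀ b c, τ (b * c) = τ b * τ c := by
    intro b c
    obtain ⟨Nb, hNb⟩ := ch2 bas b
    obtain ⟨Nc, hNc⟩ := ch2 bas c
    obtain ⟨Nbc, hNbc⟩ := ch2 bas (b + c)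
    set tb := Algebra.trace A B b with htb
    set tc := Algebra.trace A B c with htc
    have hpol : 2 * (b * c) - tb • c - tc • b + algebraMap A B (Nbc - Nb - Nc) = 0 := by
      rw [map_add] at hNbc
      simp only [map_sub, Algebra.smul_def, map_add] at hNbc hNb hNc ⊢
      linear_combination hNbc - hNb - hNc
    have hP : Nbc - Nb - Nc = tb * tc - Algebra.trace A B (b * c) := by
      have h3 := congrArg (Algebra.trace A B) hpol
      rw [map_zero, map_add, map_sub, map_sub, map_smul, map_smul, htr1] at h3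
      have h4 : Algebra.trace A B (2 * (b * c)) = 2 * Algebra.trace A B (b * c) := by
        have : (2 : B) * (b * c) = (2 : A) • (b * c) := by
          rw [Algebra.smul_def, map_ofNat]
        rw [this, map_smul, smul_eq_mul]
      rw [h4, ← htb, ← htc, smul_eq_mul, smul_eq_mul] at h3
      have h5 : (Nbc - Nb - Nc) - (tb * tc - Algebra.trace A B (b * c)) = 0 :=
        hu2 _ (by linear_combination h3)
      exact sub_eq_zero.1 h5
    rw [hP] at hpol
    rw [hτ, hτ, hτ]
    simp only [map_sub, map_mul, Algebra.smul_def] at hpol ⊢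
    linear_combination -hpol
  let σ : B →ₐ[A] B := AlgHom.ofLinearMap τ hτ1 hτmul
  have hσ : ∀ b, σ b = algebraMap A B (Algebra.trace A B b) - b := fun b => rfl
  refine ⟨σ, hσ, ?_, ?_⟩
  · ext b
    simp only [AlgHom.comp_apply, AlgHom.id_apply]
    rw [hσ, hσ, map_sub, htr1, map_sub, map_mul, map_ofNat]
    ring
  · intro b
    rw [hσ]
    constructor
    · intro h
      refine ⟨(u⁻¹ : Aˣ) * Algebra.trace A B b, ?_⟩
      have h2b : (2 : B) * b = algebraMap A B (Algebra.trace A B b) := by linear_combination -h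
      have : algebraMap A B ((u : A) * ((u⁻¹ : Aˣ) * Algebra.trace A B b)) =
          algebraMap A B (u : A) * b := by
        rw [← mul_assoc, Units.mul_inv, one_mul, hu, map_ofNat, h2b]
      rw [map_mul] at this
      have hinj : ∀ x y : B, algebraMap A B (u : A) * x = algebraMap A B (u : A) * y → x = y := by
        intro x y hxy
        have := congrArg (fun z => algebraMap A B ((u⁻¹ : Aˣ) : A) * z) hxy
        simp only [← mul_assoc, ← map_mul, Units.inv_mul, map_one, one_mul] at this
        exact this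
      exact hinj _ _ this
    · rintro ⟨a, rfl⟩
      rw [htr1, map_mul, map_ofNat]
      ring

end AlgVersion

/-- A ring homomorphism making the target free of rank 2 (with a basis indexed by `Fin 2`). -/
def FreeRk2 {A B : Type*} [CommRing A] [CommRing B] (φ : A →+* B) : Prop :=
  letI := φ.toAlgebra
  Nonempty (Basis (Fin 2) A B)

section RingHomVersion

variable {A B : Type*} [CommRing A] [CommRing B] (φ : A →+* B)

theorem exists_tau' (h2 : IsUnit (2 : A)) (hφ : FreeRk2 φ) :
    ∃ σ : B →+* B, (∀ b : B, σ b = φ (@Algebra.trace A B _ _ φ.toAlgebra b) - b) ∧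
      (∀ b, σ (σ b) = b) ∧ (∀ a, σ (φ a) = φ a) ∧
      ∀ b : B, σ b = b ↔ b ∈ Set.range φ := by
  letI := φ.toAlgebra
  obtain ⟨bas⟩ : Nonempty (Basis (Fin 2) A B) := hφ
  obtain ⟨σ, h1, h2, h3⟩ := exists_tau h2 bas
  refine ⟨σ.toRingHom, fun b => h1 b, fun b => ?_, fun a => σ.commutes a, fun b => h3 b⟩
  exact congr($(h2) b)

/-- The involution `b ↦ tr(b) - b`. -/
noncomputable def tauHom (h2 : IsUnit (2 : A)) (hφ : FreeRk2 φ) : B →+* B :=
  (exists_tau' φ h2 hφ).choose

theorem tauHom_apply (h2 : IsUnit (2 : A)) (hφ : FreeRk2 φ) (b : B) :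
    tauHom φ h2 hφ b = φ (@Algebra.trace A B _ _ φ.toAlgebra b) - b :=
  (exists_tau' φ h2 hφ).choose_spec.1 b

theorem tauHom_tauHom (h2 : IsUnit (2 : A)) (hφ : FreeRk2 φ) (b : B) :
    tauHom φ h2 hφ (tauHom φ h2 hφ b) = b :=
  (exists_tau' φ h2 hφ).choose_spec.2.1 b

theorem tauHom_phi (h2 : IsUnit (2 : A)) (hφ : FreeRk2 φ) (a : A) :
    tauHom φ h2 hφ (φ a) = φ a :=
  (exists_tau' φ h2 hφ).choose_spec.2.2.1 a

theorem tauHom_eq_self_iff (h2 : IsUnit (2 : A)) (hφ : FreeRk2 φ) (b : B) :
    tauHom φ h2 hφ b = b ↔ b ∈ Set.range φ :=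
  (exists_tau' φ h2 hφ).choose_spec.2.2.2 b

theorem FreeRk2.injective {φ : A →+* B} (hφ : FreeRk2 φ) : Function.Injective φ := by
  letI := φ.toAlgebra
  obtain ⟨bas⟩ : Nonempty (Basis (Fin 2) A B) := hφ
  exact algebraMap_injective_of_basis bas

end RingHomVersion

section Localization

variable {A B A' B' : Type*} [CommRing A] [CommRing B] [CommRing A'] [CommRing B']
  (φ : A →+* B) (φ' : A' →+* B') (rA : A →+* A') (rB : B →+* B')

theorem freeRk2_away (hcomm : φ'.comp rA = rB.comp φ) (g : A)
    (hA : @IsLocalization.Away A _ g A' _ rA.toAlgebra)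
    (hB : @IsLocalization.Away B _ (φ g) B' _ rB.toAlgebra)
    (hφ : FreeRk2 φ) :
    FreeRk2 φ' ∧ ∀ b : B, @Algebra.trace A' B' _ _ φ'.toAlgebra (rB b) =
      rA (@Algebra.trace A B _ _ φ.toAlgebra b) := by
  letI := φ.toAlgebra
  letI := φ'.toAlgebra
  letI := rA.toAlgebra
  letI := rB.toAlgebra
  letI : Algebra A B' := (rB.comp φ).toAlgebra
  haveI : IsScalarTower A A' B' := IsScalarTower.of_algebraMap_eq' hcomm.symm
  haveI : IsScalarTower A B B' := IsScalarTower.of_algebraMap_eq' rfl
  haveI : IsLocalization (Submonoid.powers g) A' := hA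
  haveI : IsLocalization (Algebra.algebraMapSubmonoid B (Submonoid.powers g)) B' := by
    have : Algebra.algebraMapSubmonoid B (Submonoid.powers g) = Submonoid.powers (φ g) := by
      simp only [Algebra.algebraMapSubmonoid, Submonoid.map_powers]
      rfl
    rw [this]
    exact hB
  obtain ⟨bas⟩ : Nonempty (Basis (Fin 2) A B) := hφ
  haveI : Module.Free A B := Module.Free.of_basis bas
  haveI : Module.Finite A B := Module.Finite.of_basis bas
  refine ⟨⟨bas.localizationLocalization A' (Submonoid.powers g) B'⟩, fun b => ?_⟩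
  exact Algebra.trace_localization A (Submonoid.powers g) b

theorem tauHom_away (hcomm : φ'.comp rA = rB.comp φ) (g : A)
    (hA : @IsLocalization.Away A _ g A' _ rA.toAlgebra)
    (hB : @IsLocalization.Away B _ (φ g) B' _ rB.toAlgebra)
    (h2 : IsUnit (2 : A)) (h2' : IsUnit (2 : A'))
    (hφ : FreeRk2 φ) (hφ' : FreeRk2 φ') (b : B) :
    rB (tauHom φ h2 hφ b) = tauHom φ' h2' hφ' (rB b) := by
  rw [tauHom_apply, tauHom_apply, map_sub, (freeRk2_away φ φ' rA rB hcomm g hA hB hφ).2 b]
  congr 1
  exact congr($(hcomm) _).symm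

end Localization

section Transfer

theorem basis_transfer {R S Rₘ Sₘ : Type*} [CommRing R] [CommRing S] [Algebra R S]
    [CommRing Rₘ] [Algebra R Rₘ] [CommRing Sₘ] [Algebra S Sₘ] (M : Submonoid R)
    [IsLocalization M Rₘ] [IsLocalization (Algebra.algebraMapSubmonoid S M) Sₘ]
    [Algebra Rₘ Sₘ] [Algebra R Sₘ] [IsScalarTower R Rₘ Sₘ] [IsScalarTower R S Sₘ]
    {ι : Type*} (b : Basis ι (Localization M) (LocalizedModule M S)) :
    Nonempty (Basis ι Rₘ Sₘ) := by
  let g : S →ₗ[R] Sₘ := (IsScalarTower.toAlgHom R S Sₘ).toLinearMap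
  haveI : IsLocalizedModule M g := isLocalizedModule_iff_isLocalization.mpr inferInstance
  let e : Localization M ≃ₐ[R] Rₘ := IsLocalization.algEquiv M _ _
  letI : Module (Localization M) Sₘ := Module.compHom Sₘ (e : Localization M →+* Rₘ)
  haveI : IsScalarTower R (Localization M) Sₘ := ⟨fun r l x => by
    change e (r • l) • x = r • (e l • x)
    rw [map_smul, smul_assoc]⟩
  let iso : LocalizedModule M S ≃ₗ[R] Sₘ := IsLocalizedModule.iso M g
  let iso' : LocalizedModule M S ≃ₗ[Localization M] Sₘ :=
    iso.extendScalarsOfIsLocalization M (Localization M)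
  let b1 : Basis ι (Localization M) Sₘ := b.map iso'
  exact ⟨b1.mapCoeffs e.toRingEquiv (fun c x => rfl)⟩

end Transfer

section LocalFree

theorem exists_away_freeRk2 {A B : Type u} [CommRing A] [CommRing B] (φ : A →+* B)
    (hfin : φ.Finite) (hflat : φ.Flat) (hfp : φ.FinitePresentation)
    (p : PrimeSpectrum A) (hrk : φ.finrank p = 2) :
    ∃ r : A, r ∉ p.asIdeal ∧ ∀ (A' B' : Type u) [CommRing A'] [CommRing B'] (φ' : A' →+* B')
      (rA : A →+* A') (rB : B →+* B'), φ'.comp rA = rB.comp φ →
      @IsLocalization.Away A _ r A' _ rA.toAlgebra →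
      @IsLocalization.Away B _ (φ r) B' _ rB.toAlgebra → FreeRk2 φ' := by
  letI := φ.toAlgebra
  haveI : Module.Finite A B := hfin
  haveI : Module.Flat A B := hflat
  haveI : Algebra.FinitePresentation A B := hfp
  haveI : Module.FinitePresentation A B :=
    Module.FinitePresentation.of_finite_of_finitePresentation A B
  haveI : Module.Free (Localization.AtPrime p.asIdeal) (LocalizedModule p.asIdeal.primeCompl B) :=
    Module.free_of_flat_of_isLocalRing
  obtain ⟨r, hr, hfree, hrank⟩ := Module.FinitePresentation.exists_free_localizedModule_powers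
    p.asIdeal.primeCompl (LocalizedModule.mkLinearMap p.asIdeal.primeCompl B)
    (Localization.AtPrime p.asIdeal)
  have hrk' : Module.finrank (Localization.AtPrime p.asIdeal)
      (LocalizedModule p.asIdeal.primeCompl B) = 2 := hrk
  rw [hrk'] at hrank
  haveI := hfree
  haveI : Nontrivial (Localization (Submonoid.powers r)) :=
    (show Localization (Submonoid.powers r) →+* Localization.AtPrime p.asIdeal from
      IsLocalization.map (M := Submonoid.powers r) (T := p.asIdeal.primeCompl) _ (RingHom.id _)
        (Submonoid.powers_le.mpr hr)).domain_nontrivial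
  haveI : Module.Finite (Localization (Submonoid.powers r)) (LocalizedModule.Away r B) :=
    Module.finite_of_finrank_pos (by omega)
  let bas := Module.finBasisOfFinrankEq _ _ hrank
  refine ⟨r, hr, ?_⟩
  intro A' B' _ _ φ' rA rB hcomm hA hB
  letI := φ'.toAlgebra
  letI := rA.toAlgebra
  letI := rB.toAlgebra
  letI : Algebra A B' := (rB.comp φ).toAlgebra
  haveI : IsScalarTower A A' B' := IsScalarTower.of_algebraMap_eq' hcomm.symm
  haveI : IsScalarTower A B B' := IsScalarTower.of_algebraMap_eq' rfl
  haveI : IsLocalization (Submonoid.powers r) A' := hA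
  haveI : IsLocalization (Algebra.algebraMapSubmonoid B (Submonoid.powers r)) B' := by
    have : Algebra.algebraMapSubmonoid B (Submonoid.powers r) = Submonoid.powers (φ r) := by
      simp only [Algebra.algebraMapSubmonoid, Submonoid.map_powers]
      rfl
    rw [this]
    exact hB
  exact basis_transfer (Submonoid.powers r) bas

end LocalFree

end Groth.Agent.Helper2.DblCov
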