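import Mathlib
import Groth.Prelude.Def_SGA1
import Groth.Agent.Lib.Helper7.QuotBasis
import Groth.Agent.Lib.Helper2.DblCov.Alg

/-! helper2: the involution of a double cover `f : X ⟶ Y` (finite flat lfp of rank 2, with `2`
invertible) and the fact that `f` is the quotient of `X` by it. -/

set_option autoImplicit false
set_option backward.isDefEq.respectTransparency.types false
set_option synthInstance.maxHeartbeats 400000
set_option maxHeartbeats 4000000
set_option linter.style.haveILetI false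
set_option linter.unusedSectionVars false
set_option linter.unusedVariables false
set_option linter.unusedSimpArgs false

open CategoryTheory CategoryTheory.Limits AlgebraicGeometry Opposite TopologicalSpace

universe u

namespace Groth.Agent.Helper2.DblCov

open Groth.Agent.Helper7.QuotGrp Groth.Agent.Helper7.QuotBasis

/-- variant of helper7's `isQuot_of_basis` which does not need the basis to be closed under
intersections. -/
theorem isQuot_of_basis' {X Y : Scheme.{u}} {G : Type u} [Group G] (ρ : G →* Aut X) (p : X ⟶ Y)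
    (hinv : ∀ g : G, (ρ g).hom ≫ p = p) (haff : IsAffineHom p)
    (𝓑 : Set Y.Opens) (hB : Opens.IsBasis 𝓑)
    (hinj : ∀ U ∈ 𝓑, Function.Injective (p.app U).hom)
    (hrange : ∀ U ∈ 𝓑, ∀ s : Γ(X, p ⁻¹ᵁ U), (∀ g : G, sig ρ p hinv U g s = s) →
      s ∈ Set.range (p.app U).hom) : SGA1.IsQuot ρ p := by
  have hcover : ∀ U : Y.Opens, U ≤ ⨆ i : {V : Y.Opens // V ∈ 𝓑 ∧ V ≤ U}, i.1 := by
    intro U x hx
    obtain ⟨V, hV, hxV, hVU⟩ := Opens.isBasis_iff_nbhd.mp hB hx
    exact Opens.mem_iSup.mpr ⟨⟨V, hV, hVU⟩, hxV⟩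
  have hinjall : ∀ U : Y.Opens, Function.Injective (p.app U).hom := by
    intro U a b hab
    refine Y.sheaf.eq_of_locally_eq' (fun i : {V : Y.Opens // V ∈ 𝓑 ∧ V ≤ U} => i.1) U
      (fun i => homOfLE i.2.2) (hcover U) a b ?_
    intro i
    apply hinj i.1 i.2.1
    change (p.app i.1).hom ((resY i.2.2).hom a) = (p.app i.1).hom ((resY i.2.2).hom b)
    rw [← app_resX_apply, ← app_resX_apply, hab]
  refine ⟨haff, hinv, hinjall, fun U s => ⟨?_, ?_⟩⟩
  · rintro ⟨a, rfl⟩ g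
    exact sig_app' ρ p hinv U g a
  · intro hs
    have hloc : ∀ i : {V : Y.Opens // V ∈ 𝓑 ∧ V ≤ U},
        ∃ t : Γ(Y, i.1), (p.app i.1).hom t = (resX p i.2.2).hom s := by
      intro i
      apply hrange i.1 i.2.1
      intro g
      rw [← sig_resX]
      exact congrArg _ (hs g)
    choose t ht using hloc
    have hcompat : TopCat.Presheaf.IsCompatible Y.sheaf.1
        (fun i : {V : Y.Opens // V ∈ 𝓑 ∧ V ≤ U} => i.1) t := by
      intro i j
      apply hinjall (i.1 ⊓ j.1)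
      change (p.app (i.1 ⊓ j.1)).hom ((resY inf_le_left).hom (t i)) =
        (p.app (i.1 ⊓ j.1)).hom ((resY inf_le_right).hom (t j))
      rw [← app_resX_apply, ← app_resX_apply, ht i, ht j, resX_resX, resX_resX]
    obtain ⟨a, ha, -⟩ := Y.sheaf.existsUnique_gluing'
      (fun i : {V : Y.Opens // V ∈ 𝓑 ∧ V ≤ U} => i.1) U (fun i => homOfLE i.2.2) (hcover U) t
      hcompat
    refine ⟨a, ?_⟩
    refine X.sheaf.eq_of_locally_eq' (fun i : {V : Y.Opens // V ∈ 𝓑 ∧ V ≤ U} => p ⁻¹ᵁ i.1)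
      (p ⁻¹ᵁ U) (fun i => homOfLE (p.preimage_mono i.2.2)) ?_ _ _ ?_
    · intro x hx
      have := hcover U hx
      obtain ⟨i, hi⟩ := Opens.mem_iSup.mp this
      exact Opens.mem_iSup.mpr ⟨i, hi⟩
    · intro i
      change (resX p i.2.2).hom ((p.app U).hom a) = (resX p i.2.2).hom s
      rw [app_resX_apply, ← ht i]
      exact congrArg _ (ha i)

variable {X Y : Scheme.{u}} (f : X ⟶ Y)

/-- An open of `Y` is good if it is affine and `f` is free of rank 2 over it. -/
def Good (V : Y.Opens) : Prop := IsAffineOpen V ∧ FreeRk2 (f.app V).hom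

theorem isUnit_two (h2 : IsUnit (2 : Γ(Y, ⊤))) (V : Y.Opens) : IsUnit (2 : Γ(Y, V)) := by
  have := h2.map (Y.presheaf.map (homOfLE (le_top : V ≤ ⊤)).op).hom
  rwa [map_ofNat] at this

section Affine

variable [IsAffineHom f]

theorem loc_data {V : Y.Opens} (hV : IsAffineOpen V) (a : Γ(Y, V)) {W : Y.Opens}
    (hW : W = Y.basicOpen a) (hWV : W ≤ V) :
    (f.app W).hom.comp (resY hWV).hom = (resX f hWV).hom.comp (f.app V).hom ∧
    @IsLocalization.Away _ _ a Γ(Y, W) _ (resY hWV).hom.toAlgebra ∧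
    @IsLocalization.Away _ _ ((f.app V).hom a) Γ(X, f ⁻¹ᵁ W) _ (resX f hWV).hom.toAlgebra := by
  refine ⟨?_, ?_, ?_⟩
  · ext x
    exact (app_resX_apply f hWV x).symm
  · exact hV.isLocalization_of_eq_basicOpen a (homOfLE hWV) hW
  · exact (hV.preimage f).isLocalization_of_eq_basicOpen _ (homOfLE (f.preimage_mono hWV))
      (by rw [hW, Scheme.preimage_basicOpen])

theorem good_basicOpen {V : Y.Opens} (hV : Good f V) (a : Γ(Y, V)) : Good f (Y.basicOpen a) := by
  obtain ⟨h1, h2, h3⟩ := loc_data f hV.1 a rfl (Y.basicOpen_le a)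
  exact ⟨hV.1.basicOpen a, (freeRk2_away _ _ _ _ h1 a h2 h3 hV.2).1⟩

/-- The local involution. -/
noncomputable def tauV (h2 : IsUnit (2 : Γ(Y, ⊤))) (V : Y.Opens) (hV : Good f V) :
    Γ(X, f ⁻¹ᵁ V) →+* Γ(X, f ⁻¹ᵁ V) :=
  tauHom (f.app V).hom (isUnit_two h2 V) hV.2

theorem tau_compat_basic (h2 : IsUnit (2 : Γ(Y, ⊤))) {V W : Y.Opens} (hV : Good f V)
    (hW : Good f W) (a : Γ(Y, V)) (e : W = Y.basicOpen a) (hWV : W ≤ V) (b : Γ(X, f ⁻¹ᵁ V)) :
    (resX f hWV).hom (tauV f h2 V hV b) = tauV f h2 W hW ((resX f hWV).hom b) := by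
  obtain ⟨h1, h2', h3⟩ := loc_data f hV.1 a e hWV
  exact tauHom_away (f.app V).hom (f.app W).hom (resY hWV).hom (resX f hWV).hom h1 a h2' h3 _ _
    hV.2 hW.2 b

theorem tau_compat (h2 : IsUnit (2 : Γ(Y, ⊤))) {V W : Y.Opens} (hV : Good f V)
    (hW : Good f W) (hWV : W ≤ V) (b : Γ(X, f ⁻¹ᵁ V)) :
    (resX f hWV).hom (tauV f h2 V hV b) = tauV f h2 W hW ((resX f hWV).hom b) := by
  refine X.sheaf.eq_of_locally_eq'
    (fun i : {a : Γ(Y, V) // Y.basicOpen a ≤ W} => f ⁻¹ᵁ (Y.basicOpen i.1)) (f ⁻¹ᵁ W)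
    (fun i => homOfLE (f.preimage_mono i.2)) ?_ _ _ ?_
  · intro x hx
    obtain ⟨a, ha1, ha2⟩ := hV.1.exists_basicOpen_le (V := W) ⟨f x, hx⟩ (hWV hx)
    exact Opens.mem_iSup.mpr ⟨⟨a, ha1⟩, ha2⟩
  · intro i
    have hW' : Good f (Y.basicOpen i.1) := good_basicOpen f hV i.1
    have e1 := tau_compat_basic f h2 hV hW' i.1 rfl (Y.basicOpen_le _) b
    have e2 := tau_compat_basic f h2 hW hW' ((resY hWV).hom i.1)
      (by
        unfold resY
        rw [Scheme.basicOpen_res]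
        exact (inf_eq_right.mpr i.2).symm) i.2 ((resX f hWV).hom b)
    change (resX f i.2).hom ((resX f hWV).hom _) = (resX f i.2).hom (tauV f h2 W hW _)
    rw [e2, resX_resX, resX_resX, e1]

end Affine

section Main

variable [IsFinite f] [Flat f] [LocallyOfFinitePresentation f]

theorem finrank_app (hrk : ∀ y : Y, f.finrank y = 2) {V : Y.Opens} (hV : IsAffineOpen V)
    (p : PrimeSpectrum Γ(Y, V)) : (f.app V).hom.finrank p = 2 := by
  have hU := hV.preimage f
  have hflat : (f.app V).hom.Flat := by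
    rw [Scheme.Hom.app_eq_appLE]
    exact f.flat_appLE hV hU le_rfl
  have hpb : IsPullback (Spec.map (f.app V)) hU.fromSpec hV.fromSpec f := by
    apply IsOpenImmersion.isPullback
    · rw [Scheme.Hom.app_eq_appLE]
      exact (IsAffineOpen.SpecMap_appLE_fromSpec f hV hU le_rfl).symm
    · simp
  have h1 := Scheme.Hom.finrank_of_isPullback hU.fromSpec (Spec.map (f.app V)) f hV.fromSpec
    hpb.flip p
  rw [hrk, Scheme.Hom.finrank_SpecMap_eq_finrank (f.finite_app V hV) hflat] at h1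
  exact h1

theorem exists_good (hrk : ∀ y : Y, f.finrank y = 2) (y : Y) : ∃ V : Y.Opens, Good f V ∧ y ∈ V := by
  obtain ⟨V0, hV0, hy0, -⟩ := exists_isAffineOpen_mem_and_subset (x := y) (U := ⊤) trivial
  have hU0 := hV0.preimage f
  have hyr : y ∈ Set.range hV0.fromSpec := by rw [hV0.range_fromSpec]; exact hy0
  obtain ⟨p, rfl⟩ := hyr
  have hflat : (f.app V0).hom.Flat := by
    rw [Scheme.Hom.app_eq_appLE]
    exact f.flat_appLE hV0 hU0 le_rfl
  have hfp : (f.app V0).hom.FinitePresentation := by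
    rw [Scheme.Hom.app_eq_appLE]
    exact f.finitePresentation_appLE hV0 hU0 le_rfl
  obtain ⟨r, hr, H⟩ := exists_away_freeRk2 (f.app V0).hom (f.finite_app V0 hV0) hflat hfp p
    (finrank_app f hrk hV0 p)
  obtain ⟨h1, h2, h3⟩ := loc_data f hV0 r rfl (Y.basicOpen_le r)
  refine ⟨Y.basicOpen r, ⟨hV0.basicOpen r, H _ _ _ _ _ h1 h2 h3⟩, ?_⟩
  have : p ∈ hV0.fromSpec ⁻¹ᵁ Y.basicOpen r := by
    rw [hV0.fromSpec_preimage_basicOpen]
    exact hr
  exact this

theorem exists_good_le (hrk : ∀ y : Y, f.finrank y = 2) (y : Y) (U : Y.Opens) (hy : y ∈ U) :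
    ∃ V : Y.Opens, Good f V ∧ y ∈ V ∧ V ≤ U := by
  obtain ⟨V, hV, hyV⟩ := exists_good f hrk y
  obtain ⟨a, ha1, ha2⟩ := hV.1.exists_basicOpen_le (V := U) ⟨y, hy⟩ hyV
  exact ⟨Y.basicOpen a, good_basicOpen f hV a, ha2, ha1⟩

theorem isBasis_good (hrk : ∀ y : Y, f.finrank y = 2) :
    Opens.IsBasis {V : Y.Opens | Good f V} := by
  rw [Opens.isBasis_iff_nbhd]
  intro U y hy
  obtain ⟨V, hV, hyV, hVU⟩ := exists_good_le f hrk y U hy
  exact ⟨V, hV, hyV, hVU⟩

/-- index type of the cover. -/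
abbrev GoodIdx : Type u := {V : Y.Opens // Good f V}

/-- the cover of `X` by the spectra of sections over the preimages of good opens. -/
noncomputable def cov (hrk : ∀ y : Y, f.finrank y = 2) : X.OpenCover where
  I₀ := GoodIdx f
  X V := Spec Γ(X, f ⁻¹ᵁ V.1)
  f V := (V.2.1.preimage f).fromSpec
  mem₀ := by
    rw [Scheme.presieve₀_mem_precoverage_iff]
    refine ⟨fun x => ?_, fun V => inferInstance⟩
    obtain ⟨V, hV, hy⟩ := exists_good f hrk (f x)
    refine ⟨⟨V, hV⟩, ?_⟩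
    change x ∈ Set.range (hV.1.preimage f).fromSpec
    rw [IsAffineOpen.range_fromSpec]
    exact hy

noncomputable instance (hrk : ∀ y : Y, f.finrank y = 2) : Preorder (cov f hrk).I₀ :=
  inferInstanceAs (Preorder (GoodIdx f))

/-- transition maps. -/
noncomputable def transMap (i j : GoodIdx f) (h : i.1 ≤ j.1) :
    Spec Γ(X, f ⁻¹ᵁ i.1) ⟶ Spec Γ(X, f ⁻¹ᵁ j.1) :=
  Spec.map (resX f h)

theorem transMap_fromSpec (i j : GoodIdx f) (h : i.1 ≤ j.1) :
    transMap f i j h ≫ (j.2.1.preimage f).fromSpec = (i.2.1.preimage f).fromSpec :=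
  IsAffineOpen.map_fromSpec _ _ _

theorem transMap_isOpenImmersion (i j : GoodIdx f) (h : i.1 ≤ j.1) :
    IsOpenImmersion (transMap f i j h) := by
  have hj : IsOpenImmersion (j.2.1.preimage f).fromSpec :=
    IsAffineOpen.isOpenImmersion_fromSpec _
  have hi : IsOpenImmersion (i.2.1.preimage f).fromSpec :=
    IsAffineOpen.isOpenImmersion_fromSpec _
  have h1 : IsOpenImmersion (transMap f i j h ≫ (j.2.1.preimage f).fromSpec) := by
    rw [transMap_fromSpec]
    exact hi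
  exact IsOpenImmersion.of_comp _ (j.2.1.preimage f).fromSpec

noncomputable instance locDir (hrk : ∀ y : Y, f.finrank y = 2) :
    (cov f hrk).LocallyDirected where
  trans {i j} hij := transMap f i j (leOfHom hij)
  trans_id i := by
    change Spec.map (X.presheaf.map (𝟙 _)) = 𝟙 _
    rw [X.presheaf.map_id, Spec.map_id]
  trans_comp {i j k} hij hjk := by
    change Spec.map (X.presheaf.map _) = Spec.map (X.presheaf.map _) ≫ Spec.map (X.presheaf.map _)
    rw [← Spec.map_comp, ← X.presheaf.map_comp]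
    rfl
  w {i j} hij := transMap_fromSpec f i j (leOfHom hij)
  directed {i j} x := by
    have hxi : (pullback.fst ((cov f hrk).f i) ((cov f hrk).f j) ≫ (cov f hrk).f i) x ∈
        f ⁻¹ᵁ i.1 := by
      have : (pullback.fst ((cov f hrk).f i) ((cov f hrk).f j) ≫ (cov f hrk).f i) x ∈
          Set.range (i.2.1.preimage f).fromSpec := ⟨_, rfl⟩
      rwa [IsAffineOpen.range_fromSpec] at this
    have hxj : (pullback.fst ((cov f hrk).f i) ((cov f hrk).f j) ≫ (cov f hrk).f i) x ∈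
        f ⁻¹ᵁ j.1 := by
      rw [pullback.condition]
      have : (pullback.snd ((cov f hrk).f i) ((cov f hrk).f j) ≫ (cov f hrk).f j) x ∈
          Set.range (j.2.1.preimage f).fromSpec := ⟨_, rfl⟩
      rwa [IsAffineOpen.range_fromSpec] at this
    obtain ⟨W, hW, hyW, hWle⟩ := exists_good_le f hrk _ (i.1 ⊓ j.1) ⟨hxi, hxj⟩
    have hr : (pullback.fst ((cov f hrk).f i) ((cov f hrk).f j) ≫ (cov f hrk).f i) x ∈
        Set.range (hW.1.preimage f).fromSpec := by
      rw [IsAffineOpen.range_fromSpec]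
      exact hyW
    obtain ⟨y, hy⟩ := hr
    refine ⟨⟨W, hW⟩, homOfLE (hWle.trans inf_le_left), homOfLE (hWle.trans inf_le_right), y, ?_⟩
    apply (pullback.fst ((cov f hrk).f i) ((cov f hrk).f j) ≫
      (cov f hrk).f i).isOpenEmbedding.injective
    rw [← Scheme.Hom.comp_apply, pullback.lift_fst_assoc]
    rw [← hy]
    exact congrArg (fun m => (m : _ ⟶ X) y) (transMap_fromSpec f ⟨W, hW⟩ i _)
  property_trans {i j} hij := transMap_isOpenImmersion f i j (leOfHom hij)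

/-- local pieces of the involution. -/
noncomputable def gV (h2 : IsUnit (2 : Γ(Y, ⊤))) (V : GoodIdx f) :
    Spec Γ(X, f ⁻¹ᵁ V.1) ⟶ X :=
  Spec.map (CommRingCat.ofHom (tauV f h2 V.1 V.2)) ≫ (V.2.1.preimage f).fromSpec

theorem transMap_gV (h2 : IsUnit (2 : Γ(Y, ⊤))) (i j : GoodIdx f) (h : i.1 ≤ j.1) :
    transMap f i j h ≫ gV f h2 j = gV f h2 i := by
  have key : CommRingCat.ofHom (tauV f h2 j.1 j.2) ≫ resX f h =
      resX f h ≫ CommRingCat.ofHom (tauV f h2 i.1 i.2) := by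
    ext b
    exact tau_compat f h2 j.2 i.2 h b
  unfold gV transMap
  rw [← Spec.map_comp_assoc, key, Spec.map_comp_assoc]
  congr 1
  exact IsAffineOpen.map_fromSpec _ _ _

/-- the involution. -/
noncomputable def sigma (hrk : ∀ y : Y, f.finrank y = 2) (h2 : IsUnit (2 : Γ(Y, ⊤))) : X ⟶ X :=
  (cov f hrk).glueMorphismsOfLocallyDirected (fun V => gV f h2 V)
    (fun {i j} hij => transMap_gV f h2 i j (leOfHom hij))

theorem fromSpec_sigma (hrk : ∀ y : Y, f.finrank y = 2) (h2 : IsUnit (2 : Γ(Y, ⊤)))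
    (V : GoodIdx f) : (V.2.1.preimage f).fromSpec ≫ sigma f hrk h2 = gV f h2 V :=
  (cov f hrk).map_glueMorphismsOfLocallyDirected (fun V => gV f h2 V)
    (fun {i j} hij => transMap_gV f h2 i j (leOfHom hij)) V

theorem fromSpec_sigma_comp (hrk : ∀ y : Y, f.finrank y = 2) (h2 : IsUnit (2 : Γ(Y, ⊤)))
    (V : GoodIdx f) :
    (V.2.1.preimage f).fromSpec ≫ sigma f hrk h2 ≫ f = (V.2.1.preimage f).fromSpec ≫ f := by
  rw [← Category.assoc, fromSpec_sigma]
  unfold gV
  rw [Category.assoc, ← IsAffineOpen.SpecMap_appLE_fromSpec f V.2.1 (V.2.1.preimage f) le_rfl,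
    ← Spec.map_comp_assoc]
  congr 2
  ext a
  rw [← Scheme.Hom.app_eq_appLE]
  exact tauHom_phi (f.app V.1).hom (isUnit_two h2 V.1) V.2.2 a

theorem sigma_comp (hrk : ∀ y : Y, f.finrank y = 2) (h2 : IsUnit (2 : Γ(Y, ⊤))) :
    sigma f hrk h2 ≫ f = f := by
  apply (cov f hrk).hom_ext
  intro V
  exact fromSpec_sigma_comp f hrk h2 V

theorem fromSpec_sigma_sigma (hrk : ∀ y : Y, f.finrank y = 2) (h2 : IsUnit (2 : Γ(Y, ⊤)))
    (V : GoodIdx f) :
    (V.2.1.preimage f).fromSpec ≫ sigma f hrk h2 ≫ sigma f hrk h2 =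
      (V.2.1.preimage f).fromSpec := by
  rw [← Category.assoc, fromSpec_sigma]
  unfold gV
  rw [Category.assoc, fromSpec_sigma]
  unfold gV
  rw [← Spec.map_comp_assoc]
  have : CommRingCat.ofHom (tauV f h2 V.1 V.2) ≫ CommRingCat.ofHom (tauV f h2 V.1 V.2) = 𝟙 _ := by
    ext b
    exact tauHom_tauHom (f.app V.1).hom (isUnit_two h2 V.1) V.2.2 b
  rw [this, Spec.map_id]
  exact Category.id_comp _

theorem sigma_sigma (hrk : ∀ y : Y, f.finrank y = 2) (h2 : IsUnit (2 : Γ(Y, ⊤))) :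
    sigma f hrk h2 ≫ sigma f hrk h2 = 𝟙 X := by
  apply (cov f hrk).hom_ext
  intro V
  exact (fromSpec_sigma_sigma f hrk h2 V).trans (Category.comp_id _).symm

theorem sigma_appLE (hrk : ∀ y : Y, f.finrank y = 2) (h2 : IsUnit (2 : Γ(Y, ⊤)))
    (V : GoodIdx f) (e : f ⁻¹ᵁ V.1 ≤ sigma f hrk h2 ⁻¹ᵁ (f ⁻¹ᵁ V.1)) :
    (sigma f hrk h2).appLE (f ⁻¹ᵁ V.1) (f ⁻¹ᵁ V.1) e = CommRingCat.ofHom (tauV f h2 V.1 V.2) := by
  apply Spec.map_injective
  rw [← cancel_mono (V.2.1.preimage f).fromSpec,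
    IsAffineOpen.SpecMap_appLE_fromSpec (sigma f hrk h2) (V.2.1.preimage f) (V.2.1.preimage f) e,
    fromSpec_sigma]
  rfl

theorem main (hrk : ∀ y : Y, f.finrank y = 2) (h2 : IsUnit (2 : Γ(Y, ⊤))) :
    ∃ σ : Aut X, σ.hom ≫ f = f ∧ σ * σ = 1 ∧
      SGA1.IsQuot (Subgroup.zpowers σ).subtype f := by
  let σA : Aut X := ⟨sigma f hrk h2, sigma f hrk h2, sigma_sigma f hrk h2, sigma_sigma f hrk h2⟩
  have hσf : σA.hom ≫ f = f := sigma_comp f hrk h2
  have hσσ : σA * σA = 1 := by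
    apply Iso.ext
    exact sigma_sigma f hrk h2
  refine ⟨σA, hσf, hσσ, ?_⟩
  -- invariance under the whole subgroup
  let H : Subgroup (Aut X) :=
    { carrier := {g | g.hom ≫ f = f}
      mul_mem' := by
        intro a b ha hb
        change (b.hom ≫ a.hom) ≫ f = f
        rw [Category.assoc, ha, hb]
      one_mem' := Category.id_comp f
      inv_mem' := by
        intro a ha
        change a.inv ≫ f = f
        rw [Iso.inv_comp_eq]
        exact ha.symm }
  have hle : Subgroup.zpowers σA ≤ H := by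
    rw [Subgroup.zpowers_le]
    exact hσf
  have hinv : ∀ g : ↥(Subgroup.zpowers σA), ((Subgroup.zpowers σA).subtype g).hom ≫ f = f :=
    fun g => hle g.2
  refine isQuot_of_basis' _ f hinv inferInstance {V : Y.Opens | Good f V} (isBasis_good f hrk)
    (fun V hV => hV.2.injective) ?_
  intro V hV s hs
  have h1 := hs ⟨σA, Subgroup.mem_zpowers σA⟩
  have h3 : sig (Subgroup.zpowers σA).subtype f hinv V ⟨σA, Subgroup.mem_zpowers σA⟩ s =
      tauV f h2 V hV s := by
    have := sigma_appLE f hrk h2 ⟨V, hV⟩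
      (SGA1.preimage_le_of_inv (Subgroup.zpowers σA).subtype f hinv ⟨σA, Subgroup.mem_zpowers σA⟩ V)
    exact congr($(this).hom s)
  rw [h3] at h1
  exact (tauHom_eq_self_iff _ _ _ s).mp h1

end Main

end Groth.Agent.Helper2.DblCov
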